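import Groth.Agent.LiftTorLib.Split
import Groth.Agent.RpushLib.HBase
import Groth.Agent.OmegaAffLib.General

/-!
# Lifts along first-order thickenings
-/

set_option autoImplicit false
set_option linter.style.haveILetI false
universe u
open CategoryTheory CategoryTheory.Limits AlgebraicGeometry TopologicalSpace Opposite OmegaSh ConormalSecLib

noncomputable section

namespace LiftTorLib

variable {X₀ Z X Y S : Scheme.{u}} {i : X₀ ⟶ Z} [IsClosedImmersion i] {pr : Z ⟶ X} {pr₂ : Z ⟶ Y}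
  {p : X ⟶ S} {q : Y ⟶ S}

/-- A chart with a chart on the target and on the base. -/
structure Chart3 (i : X₀ ⟶ Z) (pr : Z ⟶ X) (pr₂ : Z ⟶ Y) (p : X ⟶ S) (q : Y ⟶ S) where
  W : X.Opens
  U : Y.Opens
  V : S.Opens
  hU : IsAffineOpen U
  hV : IsAffineOpen V
  hUV : U ≤ q ⁻¹ᵁ V
  hWV : W ≤ p ⁻¹ᵁ V
  c : IsChart i pr W (pr₂ ⁻¹ᵁ U ⊓ pr ⁻¹ᵁ W)

/-- There are small charts. -/
def HasCharts3 (i : X₀ ⟶ Z) (pr : Z ⟶ X) (pr₂ : Z ⟶ Y) (p : X ⟶ S) (q : Y ⟶ S) : Prop :=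
  ∀ (x : X₀) (O : X.Opens), (i ≫ pr).base x ∈ O → ∀ (OY : Y.Opens), (i ≫ pr₂).base x ∈ OY →
    ∃ C : Chart3 i pr pr₂ p q, C.W ≤ O ∧ C.U ≤ OY ∧ (i ≫ pr).base x ∈ C.W

theorem hasCharts [IsClosedImmersion (i ≫ pr)] (h3 : HasCharts3 i pr pr₂ p q) : HasCharts i pr := by
  intro x O hx
  obtain ⟨O', hO', hOe⟩ := (i ≫ pr).isClosedEmbedding.isInducing.isOpen_iff.1 O.isOpen
  obtain ⟨C, hCO, -, hxC⟩ := h3 x ⟨O', hO'⟩ ((Set.ext_iff.1 hOe x).2 hx) ⊤ trivial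
  refine ⟨C.W, _, C.c, C.c.eq.le hxC, fun a ha => ?_⟩
  exact (Set.ext_iff.1 hOe a).1 (hCO (C.c.eq.ge ha))

variable (C : Chart3 i pr pr₂ p q)

/-- The morphism of a chart attached to a lift. -/
def Chart3.mor (s : Γ(Z, pr₂ ⁻¹ᵁ C.U ⊓ pr ⁻¹ᵁ C.W) →+* Γ(X, C.W)) : (C.W : Scheme.{u}) ⟶ Y :=
  C.W.toSpecΓ ≫ Spec.map (pr₂.appLE C.U _ inf_le_left ≫ CommRingCat.ofHom s) ≫ C.hU.fromSpec

variable {r : Omega.conormal i ⟶ Omega.conormal (i ≫ pr)}

theorem Chart3.mor_q (H : pr₂ ≫ q = pr ≫ p) {s} (hs : C.c.Good r s) : C.mor s ≫ q = C.W.ι ≫ p := by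
  have h : q.appLE C.V C.U C.hUV ≫ pr₂.appLE C.U (pr₂ ⁻¹ᵁ C.U ⊓ pr ⁻¹ᵁ C.W) inf_le_left ≫ CommRingCat.ofHom s =
      p.appLE C.V C.W C.hWV := by
    rw [Scheme.Hom.appLE_comp_appLE_assoc, OmegaSh.appLE_congr_hom H _
      ((inf_le_right : _ ≤ pr ⁻¹ᵁ C.W).trans (pr.preimage_mono C.hWV)),
      ← Scheme.Hom.appLE_comp_appLE pr p C.V C.W _ C.hWV inf_le_right, Category.assoc]
    ext a
    exact hs.1 _
  rw [Chart3.mor, Category.assoc, Category.assoc, ← C.hV.SpecMap_appLE_fromSpec q C.hU C.hUV,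
    ← Spec.map_comp_assoc, h, Scheme.Opens.toSpecΓ_SpecMap_appLE_assoc, C.hV.toSpecΓ_fromSpec,
    Scheme.Hom.resLE_comp_ι]

theorem Chart3.mor_j {s} (hs : C.c.Good r s) :
    (i ≫ pr).resLE C.W (i ⁻¹ᵁ (pr₂ ⁻¹ᵁ C.U ⊓ pr ⁻¹ᵁ C.W)) C.c.eq.ge ≫ C.mor s =
      (i ⁻¹ᵁ (pr₂ ⁻¹ᵁ C.U ⊓ pr ⁻¹ᵁ C.W)).ι ≫ i ≫ pr₂ := by
  let P := pr₂ ⁻¹ᵁ C.U ⊓ pr ⁻¹ᵁ C.W
  have hPU : i ⁻¹ᵁ P ≤ (i ≫ pr₂) ⁻¹ᵁ C.U := fun a ha => ha.1
  have h : pr₂.appLE C.U P inf_le_left ≫ CommRingCat.ofHom s ≫ (i ≫ pr).appLE C.W (i ⁻¹ᵁ P) C.c.eq.ge =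
      (i ≫ pr₂).appLE C.U (i ⁻¹ᵁ P) hPU := by
    rw [← Scheme.Hom.appLE_comp_appLE i pr C.W P (i ⁻¹ᵁ P) inf_le_right le_rfl,
      ← Scheme.Hom.appLE_comp_appLE i pr₂ C.U P (i ⁻¹ᵁ P) inf_le_left le_rfl, ← Scheme.Hom.app_eq_appLE]
    congr 1
    ext b
    exact hs.2.1 b
  rw [Chart3.mor, ← Scheme.Opens.toSpecΓ_SpecMap_appLE_assoc, ← Spec.map_comp_assoc, Category.assoc, h,
    Scheme.Opens.toSpecΓ_SpecMap_appLE_assoc, C.hU.toSpecΓ_fromSpec, Scheme.Hom.resLE_comp_ι]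

theorem Chart3.mor_res [IsClosedImmersion (i ≫ pr)] (hJ : SqZero i pr) (C' : Chart3 i pr pr₂ p q)
    (hW : C'.W ≤ C.W) (hU : C'.U ≤ C.U) {s} (hs : C.c.Good r s) {s'} (hs' : C'.c.Good r s') :
    X.homOfLE hW ≫ C.mor s = C'.mor s' := by
  have hP : pr₂ ⁻¹ᵁ C'.U ⊓ pr ⁻¹ᵁ C'.W ≤ pr₂ ⁻¹ᵁ C.U ⊓ pr ⁻¹ᵁ C.W :=
    inf_le_inf (pr₂.preimage_mono hU) (pr.preimage_mono hW)
  have hc := C.c.good_compat hJ C'.c hW hP hs hs'
  have h : pr₂.appLE C.U _ inf_le_left ≫ CommRingCat.ofHom s ≫ X.presheaf.map (homOfLE hW).op =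
      Y.presheaf.map (homOfLE hU).op ≫ pr₂.appLE C'.U _ inf_le_left ≫ CommRingCat.ofHom s' := by
    rw [Scheme.Hom.map_appLE_assoc, ← Scheme.Hom.appLE_map pr₂ inf_le_left (homOfLE hP).op, Category.assoc]
    congr 1
    exact CommRingCat.hom_ext hc
  rw [Chart3.mor, Chart3.mor, ← Scheme.Opens.toSpecΓ_SpecMap_presheaf_map_assoc, ← Spec.map_comp_assoc,
    Category.assoc, h, Spec.map_comp, Category.assoc,
    IsAffineOpen.map_fromSpec C.hU C'.hU (homOfLE hU).op]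

/-- The extension theorem. -/
theorem exists_extension_core [QuasiSeparated pr]
    [IsClosedImmersion (i ≫ pr)] [Surjective (i ≫ pr)]
    (H : pr₂ ≫ q = pr ≫ p) (h3 : HasCharts3 i pr pr₂ p q) (hJ : SqZero i pr) {M : X₀.Modules}
    (e : M ≅ (Scheme.Modules.pullback i).obj (Omega.sheaf pr)) [DCoh.HasSheafHom M]
    (h1 : Subsingleton (Coh.HH X₀ ((DCoh.sheafHom M).obj (Omega.conormal (i ≫ pr))) 1)) :
    ∃ h : X ⟶ Y, (i ≫ pr) ≫ h = i ≫ pr₂ ∧ h ≫ q = p := by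
  obtain ⟨φ, hφ⟩ := exists_conormalDiff i (OmegaSh.dOmega pr)
  obtain ⟨ι, r, hι, hr⟩ := exists_retraction_of_H1 hJ (hasCharts h3) (OmegaAffLib.isUniversal_dOmega (f := pr)) hφ e h1
  have hx : ∀ x : X, ∃ (C : Chart3 i pr pr₂ p q), x ∈ C.W := fun x => by
    obtain ⟨x₀, rfl⟩ := (i ≫ pr).surjective x
    obtain ⟨C, -, -, hC⟩ := h3 x₀ ⊤ trivial ⊤ trivial
    exact ⟨C, hC⟩
  choose C hC using hx
  have hs : ∀ x, ∃ s, (C x).c.Good r s := fun x => (C x).c.exists_good hJ hι hr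
  choose s hs using hs
  let 𝒰 := X.openCoverOfIsOpenCover (fun x => (C x).W)
    (IsOpenCover.mk (eq_top_iff.2 fun x _ => Opens.mem_iSup.2 ⟨x, hC x⟩))
  have hF : ∀ x y : X, pullback.fst (C x).W.ι (C y).W.ι ≫ (C x).mor (s x) =
      pullback.snd (C x).W.ι (C y).W.ι ≫ (C y).mor (s y) := fun x y => by
    rw [← cancel_epi (isPullback_opens_inf (C x).W (C y).W).isoPullback.hom,
      IsPullback.isoPullback_hom_fst_assoc, IsPullback.isoPullback_hom_snd_assoc]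
    refine Scheme.hom_ext_of_forall _ _ fun z => ?_
    obtain ⟨z₀, hz₀⟩ := (i ≫ pr).surjective z.1
    have hzx : (i ≫ pr).base z₀ ∈ (C x).W := by rw [hz₀]; exact z.2.1
    have hzy : (i ≫ pr).base z₀ ∈ (C y).W := by rw [hz₀]; exact z.2.2
    obtain ⟨C', hW', hU', hz'⟩ := h3 z₀ ((C x).W ⊓ (C y).W) ⟨hzx, hzy⟩ ((C x).U ⊓ (C y).U)
      ⟨((C x).c.eq.le hzx).1, ((C y).c.eq.le hzy).1⟩
    obtain ⟨s', hs'⟩ := C'.c.exists_good hJ hι hr
    have e₁ := (C x).mor_res hJ C' (hW'.trans inf_le_left) (hU'.trans inf_le_left) (hs x) hs'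
    have e₂ := (C y).mor_res hJ C' (hW'.trans inf_le_right) (hU'.trans inf_le_right) (hs y) hs'
    let Wz : (((C x).W ⊓ (C y).W : X.Opens) : Scheme.{u}).Opens := ((C x).W ⊓ (C y).W).ι ⁻¹ᵁ C'.W
    refine ⟨Wz, by show z.1 ∈ C'.W; rw [← hz₀]; exact hz', ?_⟩
    let t : (Wz : Scheme.{u}) ⟶ C'.W := IsOpenImmersion.lift C'.W.ι (Wz.ι ≫ ((C x).W ⊓ (C y).W).ι) (by
      rw [Scheme.Opens.range_ι]; rintro _ ⟨w, rfl⟩; exact w.2)
    have ht : t ≫ X.homOfLE hW' = Wz.ι := by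
      rw [← cancel_mono ((C x).W ⊓ (C y).W).ι, Category.assoc, Scheme.homOfLE_ι, IsOpenImmersion.lift_fac]
    rw [← ht, Category.assoc, Category.assoc, Scheme.homOfLE_homOfLE_assoc, Scheme.homOfLE_homOfLE_assoc, e₁, e₂]
  let h := 𝒰.glueMorphisms (fun x => (C x).mor (s x)) hF
  have hh : ∀ x, (C x).W.ι ≫ h = (C x).mor (s x) := fun x => Scheme.Cover.ι_glueMorphisms 𝒰 _ hF x
  refine ⟨h, ?_, 𝒰.hom_ext _ _ fun x => ?_⟩
  · refine Scheme.hom_ext_of_forall _ _ fun x₀ => ?_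
    let Cx := C ((i ≫ pr).base x₀)
    refine ⟨i ⁻¹ᵁ (pr₂ ⁻¹ᵁ Cx.U ⊓ pr ⁻¹ᵁ Cx.W), Cx.c.eq.le (hC _), ?_⟩
    rw [← Category.assoc, ← Scheme.Hom.resLE_comp_ι (i ≫ pr) Cx.c.eq.ge, Category.assoc, hh]
    exact Cx.mor_j (hs _)
  · show (C x).W.ι ≫ h ≫ q = (C x).W.ι ≫ p
    refine (Category.assoc _ _ _).symm.trans ?_
    exact (congrArg (· ≫ q) (hh x)).trans ((C x).mor_q H (hs x))

/-- Lifts along a first-order thickening. -/
theorem exists_lift {S X T T₀ : Scheme.{u}} (f : X ⟶ S) [QuasiSeparated f] (i : T₀ ⟶ T) [IsClosedImmersion i]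
    [Surjective i] (hsq : ∀ (W : T.Opens), IsAffineOpen W → ∀ x y : Γ(T, W), i.app W x = 0 → i.app W y = 0 → x * y = 0)
    (a : T ⟶ S) (a₀ : T₀ ⟶ X) (hsqr : a₀ ≫ f = i ≫ a)
    (ι : Type u) (U : ι → T.Opens) (hU : iSup U = ⊤) (b : ∀ j, (↑(U j) : Scheme.{u}) ⟶ X)
    (hb₁ : ∀ j, b j ≫ f = (U j).ι ≫ a) (hb₂ : ∀ j, (i ∣_ U j) ≫ b j = (i ⁻¹ᵁ U j).ι ≫ a₀)
    [DCoh.HasSheafHom ((Scheme.Modules.pullback a₀).obj (Omega.sheaf f))]
    (hH1 : Subsingleton (Coh.HH T₀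
      ((DCoh.sheafHom ((Scheme.Modules.pullback a₀).obj (Omega.sheaf f))).obj (Omega.conormal i)) 1)) :
    ∃ b' : T ⟶ X, b' ≫ f = a ∧ i ≫ b' = a₀ := by
  let i₀ : T₀ ⟶ pullback f a := pullback.lift a₀ i hsqr
  haveI : IsImmersion (i₀ ≫ pullback.snd f a) := by
    rw [show i₀ ≫ pullback.snd f a = i from pullback.lift_snd _ _ _]; infer_instance
  haveI : IsImmersion i₀ := IsImmersion.of_comp i₀ (pullback.snd f a)
  let Z' := i₀.coborderRange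
  let j : T₀ ⟶ Z' := i₀.liftCoborder
  let pr : (Z' : Scheme.{u}) ⟶ T := Z'.ι ≫ pullback.snd f a
  let pr₂ : (Z' : Scheme.{u}) ⟶ X := Z'.ι ≫ pullback.fst f a
  have hj : j ≫ pr = i := by
    show i₀.liftCoborder ≫ i₀.coborderRange.ι ≫ pullback.snd f a = i
    rw [← Category.assoc, Scheme.Hom.liftCoborder_ι]
    exact pullback.lift_snd _ _ _
  have hj₂ : j ≫ pr₂ = a₀ := by
    show i₀.liftCoborder ≫ i₀.coborderRange.ι ≫ pullback.fst f a = a₀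
    rw [← Category.assoc, Scheme.Hom.liftCoborder_ι]
    exact pullback.lift_fst _ _ _
  have H : pr₂ ≫ f = pr ≫ a := by simp only [pr, pr₂, Category.assoc, pullback.condition]
  haveI : IsClosedImmersion (j ≫ pr) := hj.symm ▸ inferInstance
  haveI : Surjective (j ≫ pr) := hj.symm ▸ inferInstance
  have hJ : SqZero j pr := fun W hW x y hx hy => by
    have key : ∀ k : T₀ ⟶ T, k = i → k.app W x = 0 → k.app W y = 0 → x * y = 0 := fun k hk h1 h2 => by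
      subst hk; exact hsq W hW x y h1 h2
    exact key _ hj hx hy
  have h3 : HasCharts3 j pr pr₂ a f := by
    intro x O hx OY hy
    have hjb : (j ≫ pr).base x = i.base x := by rw [hj]
    have hjb₂ : (j ≫ pr₂).base x = a₀.base x := by rw [hj₂]
    rw [hjb] at hx
    rw [hjb₂] at hy
    obtain ⟨n, hn⟩ := Opens.mem_iSup.1 (show i.base x ∈ iSup U by rw [hU]; trivial)
    obtain ⟨V, hV, hxV, -⟩ := exists_isAffineOpen_mem_and_subset (show a (i.base x) ∈ (⊤ : S.Opens) from trivial)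
    have hyV : f (a₀.base x) ∈ V := by
      rw [← Scheme.Hom.comp_apply, hsqr, Scheme.Hom.comp_apply]
      exact hxV
    obtain ⟨UX, hUX, hyU, hUle⟩ := exists_isAffineOpen_mem_and_subset (show a₀.base x ∈ OY ⊓ f ⁻¹ᵁ V from ⟨hy, hyV⟩)
    obtain ⟨O', hO', hOe⟩ := i.isClosedEmbedding.isInducing.isOpen_iff.1 (a₀ ⁻¹ᵁ UX).isOpen
    have hxO' : i.base x ∈ O' := (Set.ext_iff.1 hOe x).2 hyU
    obtain ⟨W, hW, hxW, hWle⟩ := exists_isAffineOpen_mem_and_subset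
      (show i.base x ∈ (O ⊓ U n) ⊓ a ⁻¹ᵁ V ⊓ (⟨O', hO'⟩ : T.Opens) from ⟨⟨⟨hx, hn⟩, hxV⟩, hxO'⟩)
    have hWV : W ≤ a ⁻¹ᵁ V := fun t ht => (hWle ht).1.2
    have hWn : W ≤ U n := fun t ht => (hWle ht).1.1.2
    have hUV : UX ≤ f ⁻¹ᵁ V := fun t ht => (hUle ht).2
    have hW0 : i ⁻¹ᵁ W ≤ a₀ ⁻¹ᵁ UX := fun t ht => (Set.ext_iff.1 hOe t).1 (hWle ht).2
    let PZ : (pullback f a).Opens := pullback.fst f a ⁻¹ᵁ UX ⊓ pullback.snd f a ⁻¹ᵁ W
    have hPZ : IsAffineOpen PZ :=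
      RpushLib.isAffineOpen_fibre (IsPullback.of_hasPullback f a) hV hW hWV hUX hUV
    have hi₁ : ∀ t, (pullback.fst f a).base (i₀.base t) = a₀.base t := fun t => by
      rw [← Scheme.Hom.comp_apply, show i₀ ≫ pullback.fst f a = a₀ from pullback.lift_fst _ _ _]
    have hi₂ : ∀ t, (pullback.snd f a).base (i₀.base t) = i.base t := fun t => by
      rw [← Scheme.Hom.comp_apply, show i₀ ≫ pullback.snd f a = i from pullback.lift_snd _ _ _]
    have hmem : ∀ t, i.base t ∈ W → i₀.base t ∈ PZ := fun t ht =>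
      ⟨show (pullback.fst f a).base _ ∈ UX by rw [hi₁]; exact hW0 ht,
        show (pullback.snd f a).base _ ∈ W by rw [hi₂]; exact ht⟩
    have hZle : (PZ : Set ↥(pullback f a)) ⊆ (Z' : Set ↥(pullback f a)) := by
      let g := i₀.resLE PZ (i ⁻¹ᵁ W) (fun t ht => hmem t ht)
      haveI : IsAffine (PZ : Scheme.{u}) := hPZ
      haveI : IsAffine (W : Scheme.{u}) := hW
      haveI : IsClosedImmersion (g ≫ (pullback.snd f a).resLE W PZ inf_le_right) := by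
        have e : g ≫ (pullback.snd f a).resLE W PZ inf_le_right = i ∣_ W := by
          rw [← cancel_mono W.ι, Category.assoc, Scheme.Hom.resLE_comp_ι, Scheme.Hom.resLE_comp_ι_assoc,
            morphismRestrict_ι, show i₀ ≫ pullback.snd f a = i from pullback.lift_snd _ _ _]
        rw [e]; infer_instance
      haveI : IsClosedImmersion g := IsClosedImmersion.of_comp g ((pullback.snd f a).resLE W PZ inf_le_right)
      intro z hz
      show z ∈ (closure (Set.range i₀.base) \ Set.range i₀.base)ᶜ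
      rintro ⟨hzc, hzn⟩
      have hz' : (⟨z, hz⟩ : ↥(PZ : Scheme.{u})) ∈ closure (Set.range g.base) := by
        have hpre : PZ.ι.base ⁻¹' Set.range i₀.base = Set.range g.base := by
          ext w
          constructor
          · rintro ⟨t, ht⟩
            have hwW : (pullback.snd f a).base (PZ.ι.base w) ∈ W := w.2.2
            rw [← ht, hi₂] at hwW
            refine ⟨⟨t, hwW⟩, PZ.ι.isOpenEmbedding.injective ?_⟩
            rw [← ht, ← Scheme.Hom.comp_apply, Scheme.Hom.resLE_comp_ι, Scheme.Hom.comp_apply]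
            rfl
          · rintro ⟨t, rfl⟩
            refine ⟨t.1, ?_⟩
            show _ = PZ.ι.base (g.base t)
            rw [← Scheme.Hom.comp_apply, Scheme.Hom.resLE_comp_ι, Scheme.Hom.comp_apply]
            rfl
        rw [← hpre, ← PZ.ι.isOpenEmbedding.isOpenMap.preimage_closure_eq_closure_preimage PZ.ι.continuous]
        exact hzc
      rw [g.isClosedEmbedding.isClosed_range.closure_eq] at hz'
      obtain ⟨t, ht⟩ := hz'
      refine hzn ⟨t.1, ?_⟩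
      have e := congrArg PZ.ι.base ht
      rw [← Scheme.Hom.comp_apply, Scheme.Hom.resLE_comp_ι, Scheme.Hom.comp_apply] at e
      exact e
    let P : (Z' : Scheme.{u}).Opens := pr₂ ⁻¹ᵁ UX ⊓ pr ⁻¹ᵁ W
    have hP : IsAffineOpen P := hPZ.preimage_of_isOpenImmersion Z'.ι (by rw [Scheme.Opens.opensRange_ι]; exact hZle)
    have hPle : P ≤ pr ⁻¹ᵁ W := inf_le_right
    have hjt₂ : ∀ t, pr₂.base (j.base t) = a₀.base t := fun t => by rw [← Scheme.Hom.comp_apply, hj₂]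
    have hjt : ∀ t, pr.base (j.base t) = i.base t := fun t => by rw [← Scheme.Hom.comp_apply, hj]
    have heq : (j ≫ pr) ⁻¹ᵁ W = j ⁻¹ᵁ P :=
      le_antisymm (fun t ht => ⟨show pr₂.base (j.base t) ∈ UX by
          rw [hjt₂]; exact hW0 (show i.base t ∈ W by rw [← hjt]; exact ht), ht⟩)
        fun t ht => ht.2
    -- the lift
    let σ : (W : Scheme.{u}) ⟶ pullback f a :=
      pullback.lift (T.homOfLE hWn ≫ b n) W.ι (by rw [Category.assoc, hb₁, Scheme.homOfLE_ι_assoc])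
    have hQW : j ⁻¹ᵁ P ≤ i ⁻¹ᵁ W := fun t ht => show i.base t ∈ W by rw [← hjt]; exact ht.2
    let r : ((j ⁻¹ᵁ P : T₀.Opens) : Scheme.{u}) ⟶ W := i.resLE W (j ⁻¹ᵁ P) hQW
    have hrσ : r ≫ σ = (j ⁻¹ᵁ P).ι ≫ i₀ := by
      refine pullback.hom_ext ?_ ?_
      · simp only [σ, i₀, Category.assoc, pullback.lift_fst]
        have e : r ≫ T.homOfLE hWn = T₀.homOfLE (hQW.trans (i.preimage_mono hWn)) ≫ (i ∣_ U n) := by
          rw [← cancel_mono (U n).ι, Category.assoc, Category.assoc, Scheme.homOfLE_ι, Scheme.Hom.resLE_comp_ι,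
            morphismRestrict_ι, Scheme.homOfLE_ι_assoc]
        rw [reassoc_of% e, hb₂, Scheme.homOfLE_ι_assoc]
      · simp only [σ, i₀, r, Category.assoc, pullback.lift_snd]
        exact Scheme.Hom.resLE_comp_ι _ _
    have hσr : ∀ w : W, σ.base w ∈ PZ := fun w => by
      obtain ⟨t, ht⟩ := i.surjective w.1
      have htW : i.base t ∈ W := by rw [ht]; exact w.2
      have htP : t ∈ j ⁻¹ᵁ P := heq.le (show (j ≫ pr).base t ∈ W by rw [hj]; exact htW)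
      have hw : r.base ⟨t, htP⟩ = w := Subtype.ext (by
        show W.ι.base (r.base ⟨t, htP⟩) = w.1
        rw [← Scheme.Hom.comp_apply, Scheme.Hom.resLE_comp_ι, Scheme.Hom.comp_apply]
        exact ht)
      rw [← hw, ← Scheme.Hom.comp_apply, hrσ, Scheme.Hom.comp_apply]
      exact hmem t htW
    let σ' : (W : Scheme.{u}) ⟶ Z' := IsOpenImmersion.lift Z'.ι σ (by
      rw [Scheme.Opens.range_ι]; rintro _ ⟨w, rfl⟩; exact hZle (hσr w))
    have hσ' : σ' ≫ Z'.ι = σ := IsOpenImmersion.lift_fac _ _ _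
    have hσpr : σ' ≫ pr = W.ι := by
      simp only [pr, reassoc_of% hσ', σ, pullback.lift_snd]
    have hrσ' : r ≫ σ' = (j ⁻¹ᵁ P).ι ≫ j := by
      rw [← cancel_mono Z'.ι, Category.assoc, hσ', Category.assoc, Scheme.Hom.liftCoborder_ι, hrσ]
    have hσP : (⊤ : (W : Scheme.{u}).Opens) ≤ σ' ⁻¹ᵁ P := fun w _ => by
      have h := hσr w
      rw [← hσ', Scheme.Hom.comp_apply] at h
      exact h
    let l : Γ((Z' : Scheme.{u}), P) ⟶ Γ(T, W) := σ'.appLE P ⊤ hσP ≫ W.topIso.hom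
    have hl₁ : pr.appLE W P hPle ≫ l = 𝟙 _ := by
      simp only [l]
      rw [Scheme.Hom.appLE_comp_appLE_assoc, OmegaSh.appLE_congr_hom hσpr _ (by simp)]
      simp [Scheme.Opens.topIso_hom]
      exact (T.presheaf.map_comp _ _).symm.trans
        ((congrArg T.presheaf.map (Subsingleton.elim _ (𝟙 _))).trans (T.presheaf.map_id _))
    have hl₂ : l ≫ i.appLE W (j ⁻¹ᵁ P) hQW = j.appLE P (j ⁻¹ᵁ P) le_rfl := by
      have h1 : σ'.appLE P ⊤ hσP ≫ r.appLE ⊤ ⊤ le_top =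
          j.appLE P (j ⁻¹ᵁ P) le_rfl ≫ (j ⁻¹ᵁ P).ι.appLE (j ⁻¹ᵁ P) ⊤ (by simp) := by
        rw [Scheme.Hom.appLE_comp_appLE, Scheme.Hom.appLE_comp_appLE]
        exact OmegaSh.appLE_congr_hom hrσ' _ _
      rw [← cancel_mono (j ⁻¹ᵁ P).topIso.inv]
      have h2 : W.topIso.hom ≫ i.appLE W (j ⁻¹ᵁ P) hQW ≫ (j ⁻¹ᵁ P).topIso.inv = r.appLE ⊤ ⊤ le_top := by
        simp [r, Scheme.Hom.resLE_appLE, Scheme.Opens.topIso_hom, Scheme.Opens.topIso_inv]
        erw [Scheme.Hom.appLE_map, Scheme.Hom.map_appLE]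
      simp only [l, Category.assoc]
      rw [h2, h1]
      simp [Scheme.Opens.topIso_inv]
      exact congrArg (fun g => j.appLE P (j ⁻¹ᵁ P) le_rfl ≫ T₀.presheaf.map g) (Subsingleton.elim _ _)
    refine ⟨⟨W, UX, V, hUX, hV, hUV, hWV, ⟨hW, hP, hPle, heq, l.hom, ?_, ?_⟩⟩,
      fun t ht => (hWle ht).1.1.1, fun t ht => (hUle ht).1, by rw [hjb]; exact hxW⟩
    · intro c
      exact congr($(hl₁).hom c)
    · intro c
      show (pr.appLE W P hPle ≫ j.app P) (l.hom c) = j.app P c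
      rw [Scheme.Hom.app_eq_appLE j, Scheme.Hom.appLE_comp_appLE, OmegaSh.appLE_congr_hom hj _ hQW]
      exact congr($(hl₂).hom c)
  haveI : QuasiSeparated pr := inferInstanceAs (QuasiSeparated (Z'.ι ≫ pullback.snd f a))
  obtain ⟨c, hc, -⟩ := OmegaAffLib.existsUnique_diffCompat (h := pullback.fst f a) (b := a)
    (IsPullback.of_hasPullback f a).w.symm (OmegaSh.dOmega f) (OmegaAffLib.isUniversal_dOmega (f := f))
    (OmegaSh.dOmega (pullback.snd f a))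
  haveI : IsIso c := OmegaAffLib.isIso_of_isPullback (IsPullback.of_hasPullback f a)
    (OmegaAffLib.isUniversal_dOmega (f := f)) (OmegaAffLib.isUniversal_dOmega (f := pullback.snd f a)) hc
  obtain ⟨c', hc', -⟩ := OmegaAffLib.existsUnique_diffCompat (h := Z'.ι) (b := 𝟙 T) (f' := pr)
    (Category.comp_id _) (OmegaSh.dOmega (pullback.snd f a))
    (OmegaAffLib.isUniversal_dOmega (f := pullback.snd f a)) (OmegaSh.dOmega pr)
  haveI : IsIso c' := OmegaAffLib.isIso_of_etale (b := 𝟙 T) (Category.comp_id pr).symm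
    (OmegaAffLib.isUniversal_dOmega (f := pullback.snd f a)) (OmegaAffLib.isUniversal_dOmega (f := pr)) hc'
  let e : (Scheme.Modules.pullback a₀).obj (Omega.sheaf f) ≅ (Scheme.Modules.pullback j).obj (Omega.sheaf pr) :=
    (Scheme.Modules.pullbackCongr hj₂.symm).app _ ≪≫
      ((Scheme.Modules.pullbackComp j pr₂).app _).symm ≪≫
      (Scheme.Modules.pullback j).mapIso (((Scheme.Modules.pullbackComp Z'.ι (pullback.fst f a)).app _).symm ≪≫
        (Scheme.Modules.pullback Z'.ι).mapIso (asIso c) ≪≫ asIso c')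
  have key : ∀ k : T₀ ⟶ T, k = i → Subsingleton (Coh.HH T₀
      ((DCoh.sheafHom ((Scheme.Modules.pullback a₀).obj (Omega.sheaf f))).obj (Omega.conormal k)) 1) := by
    rintro _ rfl; exact hH1
  obtain ⟨h, h₁, h₂⟩ := exists_extension_core H h3 hJ e (key _ hj)
  exact ⟨h, h₂, by rw [← hj, h₁, hj₂]⟩

end LiftTorLib
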