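import Groth.Agent.LiftExtLib.Alg
import Groth.Agent.ConormalInjLib.Main

/-!
# The conormal sequence of a point of a smooth scheme over a square-zero thickening
-/

set_option autoImplicit false
set_option linter.style.haveILetI false
universe u
open CategoryTheory CategoryTheory.Limits AlgebraicGeometry TopologicalSpace Opposite OmegaSh ConormalSecLib

noncomputable section

namespace LiftTorLib
open LiftExtLib (baseChange_facts exists_sub_mem eq_zero_of_alg_mem_sq exists_section section_unique)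

section Facts

variable {Z X : Scheme.{u}} (i : Z ⟶ X) [IsClosedImmersion i]

theorem app_surj {P : X.Opens} (hP : IsAffineOpen P) : Function.Surjective (i.app P) := by
  have h := FComplLib.surjective_appLE i P hP (i ⁻¹ᵁ P) le_rfl rfl
  rwa [← Scheme.Hom.app_eq_appLE] at h

theorem pull_facts (M : X.Modules) [Coh.IsQCoh M] {P : X.Opens} (hP : IsAffineOpen P) :
    Function.Surjective (pullSect i M P) ∧
      ∀ m, pullSect i M P m = 0 → m ∈ RingHom.ker (i.app P).hom • (⊤ : Submodule Γ(X, P) Γ(M, P)) := by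
  letI := (i.app P).hom.toAlgebra
  letI : Module Γ(X, P) Γ(KFlatLib.pb i M, i ⁻¹ᵁ P) := Module.compHom _ (i.app P).hom
  haveI : IsScalarTower Γ(X, P) Γ(Z, i ⁻¹ᵁ P) Γ(KFlatLib.pb i M, i ⁻¹ᵁ P) :=
    IsScalarTower.of_algebraMap_smul fun a t => rfl
  let ψ : Γ(M, P) →ₗ[Γ(X, P)] Γ(KFlatLib.pb i M, i ⁻¹ᵁ P) :=
    { toFun := KFlatLib.puSecLE i M le_rfl
      map_add' := map_add _
      map_smul' := fun r m => (KFlatLib.puSecLE_smul i M le_rfl r m).trans (by
        rw [← Scheme.Hom.app_eq_appLE]; rfl) }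
  have hψ : IsBaseChange Γ(Z, i ⁻¹ᵁ P) ψ :=
    KFlatLib.isBaseChange_puSec i M hP (hP.preimage i) le_rfl
      (fun r => by rw [← Scheme.Hom.app_eq_appLE]; rfl) ψ fun _ => rfl
  have hself : ∀ m, ψ m = pullSect i M P m := fun m => by
    show KFlatLib.puSecLE i M le_rfl m = _
    rw [KFlatLib.puSecLE_apply, Subsingleton.elim (homOfLE (le_refl (i ⁻¹ᵁ P))).op (𝟙 _),
      CategoryTheory.Functor.map_id]
    rfl
  obtain ⟨h1, h2⟩ := baseChange_facts (app_surj i hP) hψ
  exact ⟨fun t => by obtain ⟨m, hm⟩ := h1 t; exact ⟨m, (hself m).symm.trans hm⟩,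
    fun m hm => h2 m ((hself m).trans hm)⟩

theorem conormal_facts {P : X.Opens} (hP : IsAffineOpen P) :
    Function.Surjective (conormalSect i P) ∧
      ∀ s, (conormalSect i P s = 0 ↔
        idealSect i.ker P s ∈ RingHom.ker (i.app P).hom * RingHom.ker (i.app P).hom) := by
  haveI : Coh.IsQCoh (ClSub.idealMod i.ker) := SweepSix.ConormalSpec.isQCoh_idealMod _
  obtain ⟨h1, h2⟩ := pull_facts i (ClSub.idealMod i.ker) hP
  refine ⟨h1, fun s => ⟨fun hs => ?_, fun hs => ?_⟩⟩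
  · refine Submodule.smul_induction_on
      (p := fun m => idealSect i.ker P m ∈ RingHom.ker (i.app P).hom * RingHom.ker (i.app P).hom) (h2 s hs)
      (fun a ha m _ => ?_) (fun a b ha hb => by rw [map_add]; exact Ideal.add_mem _ ha hb)
    rw [idealSect_smul]
    exact Ideal.mul_mem_mul ha (app_idealSect i P m)
  · have main : ∀ y ∈ RingHom.ker (i.app P).hom * RingHom.ker (i.app P).hom, ∃ m : Γ(ClSub.idealMod i.ker, P),
        idealSect i.ker P m = y ∧ conormalSect i P m = 0 := by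
      intro y hy
      refine Submodule.mul_induction_on hy (fun a ha b hb => ?_) fun a b ⟨m, hm, hm'⟩ ⟨n, hn, hn'⟩ =>
        ⟨m + n, by rw [map_add, hm, hn], by rw [map_add, hm', hn', add_zero]⟩
      refine ⟨a • ConormalSecLib.lift i P b hb, ?_, ?_⟩
      · exact (idealSect_smul i P a _).trans (congrArg (a * ·) (idealSect_lift i P b hb))
      · exact (pullSect_smul i _ P a _).trans (by rw [RingHom.mem_ker.mp ha]; exact zero_smul _ _)
    obtain ⟨m, hm, hm'⟩ := main _ hs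
    rwa [idealSect_injective i P hm] at hm'

end Facts

variable {X₀ Z X : Scheme.{u}} (i : X₀ ⟶ Z) [IsClosedImmersion i] (pr : Z ⟶ X)

theorem app_app_idealSect (W : X.Opens) (s : Γ(ClSub.idealMod (i ≫ pr).ker, W)) :
    i.app (pr ⁻¹ᵁ W) (pr.app W (idealSect (i ≫ pr).ker W s)) = 0 := by
  have h := app_idealSect (i ≫ pr) W s
  rw [Scheme.Hom.comp_app] at h
  exact h

/-- An ideal section downstairs, upstairs. -/
def up (W : X.Opens) : Γ(ClSub.idealMod (i ≫ pr).ker, W) →+ Γ(ClSub.idealMod i.ker, pr ⁻¹ᵁ W) :=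
  AddMonoidHom.mk' (fun s => ConormalSecLib.lift i (pr ⁻¹ᵁ W) _ (app_app_idealSect i pr W s))
    fun a b => idealSect_injective i _ (by
      refine (idealSect_lift i _ _ _).trans (Eq.trans ?_ (map_add (idealSect i.ker _) _ _).symm)
      rw [idealSect_lift, idealSect_lift, map_add, map_add])

theorem idealSect_up (W : X.Opens) (s : Γ(ClSub.idealMod (i ≫ pr).ker, W)) :
    idealSect i.ker (pr ⁻¹ᵁ W) (up i pr W s) = pr.app W (idealSect (i ≫ pr).ker W s) :=
  idealSect_lift i _ _ (app_app_idealSect i pr W s)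

theorem up_smul (W : X.Opens) (r : Γ(X, W)) (s : Γ(ClSub.idealMod (i ≫ pr).ker, W)) :
    up i pr W (r • s) = pr.app W r • up i pr W s := idealSect_injective i _ (by
  rw [idealSect_up, idealSect_smul, idealSect_smul, idealSect_up, map_mul])

theorem up_map {W W' : X.Opens} (e : W' ≤ W) (s : Γ(ClSub.idealMod (i ≫ pr).ker, W)) :
    up i pr W' ((ClSub.idealMod (i ≫ pr).ker).presheaf.map (homOfLE e).op s) =
      (ClSub.idealMod i.ker).presheaf.map (homOfLE (pr.preimage_mono e)).op (up i pr W s) :=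
  idealSect_injective i _ (by
    rw [idealSect_up, idealSect_map, idealSect_map, idealSect_up]
    exact congr($(pr.naturality (homOfLE e).op) (idealSect (i ≫ pr).ker W s)))

theorem exists_conormalMap :
    ∃ ι : Omega.conormal (i ≫ pr) ⟶ Omega.conormal i, ∀ (W : X.Opens) (s : Γ(ClSub.idealMod (i ≫ pr).ker, W)),
      ι.app ((i ≫ pr) ⁻¹ᵁ W) (conormalSect (i ≫ pr) W s) = conormalSect i (pr ⁻¹ᵁ W) (up i pr W s) := by
  let ψ : ClSub.idealMod (i ≫ pr).ker ⟶ (Scheme.Modules.pushforward (i ≫ pr)).obj (Omega.conormal i) :=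
    ⟨PresheafOfModules.homMk (M₁ := (ClSub.idealMod (i ≫ pr).ker).val)
      (M₂ := ((Scheme.Modules.pushforward (i ≫ pr)).obj (Omega.conormal i)).val)
      { app := fun W => AddCommGrpCat.ofHom ((conormalSect i (pr ⁻¹ᵁ W.unop)).hom.comp (up i pr W.unop))
        naturality := fun W W' e => by
          ext s
          show conormalSect i _ (up i pr W'.unop
            ((ClSub.idealMod (i ≫ pr).ker).presheaf.map (homOfLE e.unop.le).op s)) = _
          refine (congrArg (conormalSect i _) (up_map i pr e.unop.le s)).trans ?_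
          exact pullSect_map i (ClSub.idealMod i.ker) _ _ }
      (fun W r s => by
        refine (congrArg (conormalSect i _) (up_smul i pr W.unop r s)).trans ?_
        refine (pullSect_smul i _ _ _ _).trans ?_
        rfl)⟩
  refine ⟨((Scheme.Modules.pullbackPushforwardAdjunction (i ≫ pr)).homEquiv _ _).symm ψ, fun U s => ?_⟩
  have h := congr((($(((Scheme.Modules.pullbackPushforwardAdjunction (i ≫ pr)).homEquiv _ _).apply_symm_apply ψ)).app U) s)
  rw [Adjunction.homEquiv_unit] at h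
  exact h

variable {i pr}

/-- A chart: affines with a common preimage. -/
structure IsChart (i : X₀ ⟶ Z) (pr : Z ⟶ X) (W : X.Opens) (P : Z.Opens) : Prop where
  hW : IsAffineOpen W
  hP : IsAffineOpen P
  le : P ≤ pr ⁻¹ᵁ W
  eq : (i ≫ pr) ⁻¹ᵁ W = i ⁻¹ᵁ P
  lift : ∃ l : Γ(Z, P) →+* Γ(X, W), (∀ a, l (pr.appLE W P le a) = a) ∧
    ∀ b, i.app P (pr.appLE W P le (l b)) = i.app P b

variable {W : X.Opens} {P : Z.Opens} (c : IsChart i pr W P)

/-- the quotient map of a chart -/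
abbrev IsChart.π : Γ(X, W) →+* Γ(X₀, i ⁻¹ᵁ P) := (i.app P).hom.comp (pr.appLE W P c.le).hom

theorem IsChart.π_eq (a : Γ(X, W)) :
    c.π a = X₀.presheaf.map (homOfLE c.eq.ge).op ((i ≫ pr).app W a) := by
  show (pr.appLE W P c.le ≫ i.app P) a = ((i ≫ pr).app W ≫ X₀.presheaf.map (homOfLE c.eq.ge).op) a
  rw [Scheme.Hom.app_eq_appLE i, Scheme.Hom.appLE_comp_appLE, Scheme.Hom.app_eq_appLE (i ≫ pr),
    Scheme.Hom.appLE_map]

theorem bijective_res {Y : Scheme.{u}} (M : Y.Modules) {A B : Y.Opens} (h : A = B) :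
    Function.Bijective (M.presheaf.map (homOfLE h.ge).op) := by
  subst h
  rw [Subsingleton.elim (homOfLE (le_refl A)).op (𝟙 _), CategoryTheory.Functor.map_id]
  exact Function.bijective_id

theorem bijective_resX {Y : Scheme.{u}} {A B : Y.Opens} (h : A = B) :
    Function.Bijective (Y.presheaf.map (homOfLE h.ge).op) := by
  subst h
  rw [Subsingleton.elim (homOfLE (le_refl A)).op (𝟙 _), CategoryTheory.Functor.map_id]
  exact Function.bijective_id

theorem IsChart.π_surjective [IsClosedImmersion (i ≫ pr)] : Function.Surjective c.π := fun t => by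
  obtain ⟨t', rfl⟩ := (bijective_resX c.eq).2 t
  obtain ⟨a, rfl⟩ := app_surj (i ≫ pr) c.hW t'
  exact ⟨a, c.π_eq a⟩

theorem IsChart.app_eq_zero {a : Γ(X, W)} (h : c.π a = 0) : (i ≫ pr).app W a = 0 :=
  (bijective_resX c.eq).1 (((c.π_eq a).symm.trans h).trans (map_zero _).symm)

/-- the conormal class of a section downstairs, on a chart -/
def IsChart.κ : Γ(ClSub.idealMod (i ≫ pr).ker, W) →+ Γ(Omega.conormal (i ≫ pr), i ⁻¹ᵁ P) :=
  ((Omega.conormal (i ≫ pr)).presheaf.map (homOfLE c.eq.ge).op).hom.comp (conormalSect (i ≫ pr) W).hom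

theorem IsChart.κ_smul (a : Γ(X, W)) (y : Γ(ClSub.idealMod (i ≫ pr).ker, W)) : c.κ (a • y) = c.π a • c.κ y := by
  rw [c.π_eq]
  exact res_conormalSect_smul (i ≫ pr) c.eq.ge a y

variable (i pr) in
/-- the ideal downstairs has square zero -/
def SqZero : Prop :=
  ∀ (W : X.Opens), IsAffineOpen W → ∀ a b : Γ(X, W), (i ≫ pr).app W a = 0 → (i ≫ pr).app W b = 0 → a * b = 0

theorem IsChart.sq (hJ : SqZero i pr) (a b : Γ(X, W)) (ha : c.π a = 0) (hb : c.π b = 0) : a * b = 0 :=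
  hJ W c.hW a b (c.app_eq_zero ha) (c.app_eq_zero hb)

theorem IsChart.κ_bijective [IsClosedImmersion (i ≫ pr)] (hJ : SqZero i pr) : Function.Bijective c.κ := by
  obtain ⟨h1, h2⟩ := conormal_facts (i ≫ pr) c.hW
  refine ⟨(injective_iff_map_eq_zero _).2 fun y hy => idealSect_injective (i ≫ pr) W ?_,
    (bijective_res _ c.eq).2.comp h1⟩
  rw [map_zero]
  have hy' : idealSect (i ≫ pr).ker W y ∈ RingHom.ker ((i ≫ pr).app W).hom * RingHom.ker ((i ≫ pr).app W).hom :=
    (h2 y).1 ((bijective_res _ c.eq).1 (hy.trans (map_zero _).symm))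
  exact Submodule.mul_induction_on hy' (fun a ha b hb => hJ W c.hW a b ha hb) fun a b ha hb => by
    rw [ha, hb, add_zero]

/-- the ideal section upstairs attached to one downstairs, on a chart -/
def IsChart.upP (y : Γ(ClSub.idealMod (i ≫ pr).ker, W)) : Γ(ClSub.idealMod i.ker, P) :=
  (ClSub.idealMod i.ker).presheaf.map (homOfLE c.le).op (up i pr W y)

theorem IsChart.idealSect_upP (y : Γ(ClSub.idealMod (i ≫ pr).ker, W)) :
    idealSect i.ker P (c.upP y) = pr.appLE W P c.le (idealSect (i ≫ pr).ker W y) := by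
  rw [IsChart.upP, idealSect_map, idealSect_up, ← ConcreteCategory.comp_apply, Scheme.Hom.app_eq_appLE,
    Scheme.Hom.appLE_map]

variable {ι : Omega.conormal (i ≫ pr) ⟶ Omega.conormal i}

variable (i pr) in
/-- the compatibility of the conormal map -/
def IsConMap (ι : Omega.conormal (i ≫ pr) ⟶ Omega.conormal i) : Prop :=
  ∀ (W : X.Opens) (s : Γ(ClSub.idealMod (i ≫ pr).ker, W)),
      ι.app ((i ≫ pr) ⁻¹ᵁ W) (conormalSect (i ≫ pr) W s) = conormalSect i (pr ⁻¹ᵁ W) (up i pr W s)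

theorem IsChart.ι_κ (hι : IsConMap i pr ι) (y : Γ(ClSub.idealMod (i ≫ pr).ker, W)) :
    ι.app (i ⁻¹ᵁ P) (c.κ y) = conormalSect i P (c.upP y) := by
  refine (QCohLib.app_map ι (homOfLE c.eq.ge) _).trans ?_
  refine (congrArg _ (hι W y)).trans ?_
  exact (pullSect_map i (ClSub.idealMod i.ker) c.le (up i pr W y)).symm

/-- the charts are small -/
def HasCharts (i : X₀ ⟶ Z) (pr : Z ⟶ X) : Prop :=
  ∀ (x : X₀) (O : X₀.Opens), x ∈ O → ∃ (W : X.Opens) (P : Z.Opens), IsChart i pr W P ∧ x ∈ i ⁻¹ᵁ P ∧ i ⁻¹ᵁ P ≤ O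

theorem exact_of_local {F G H : X₀.Modules} (φ : F ⟶ G) (ψ : G ⟶ H) (w : φ ≫ ψ = 0)
    (h : ∀ (V : X₀.Opens) (t : Γ(G, V)), ψ.app V t = 0 → ∀ x ∈ V, ∃ (W : X₀.Opens) (hle : W ≤ V), x ∈ W ∧
      ∃ s, φ.app W s = G.presheaf.map (homOfLE hle).op t) : (ShortComplex.mk φ ψ w).Exact := by
  rw [ShortComplex.exact_iff_epi_kernel_lift]
  refine QCohLib.epi_of_surjective_on_affines _ fun V k x hx => ?_
  obtain ⟨W, hle, hxW, s, hs⟩ := h V ((kernel.ι ψ).app V k)
    (congrArg (fun θ => θ.app V k) (kernel.condition ψ)) x hx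
  refine ⟨W, hle, hxW, s, QCohLib.app_injective_of_mono (kernel.ι ψ) W ?_⟩
  refine Eq.trans ?_ ((hs.trans ?_))
  · exact congrArg (fun θ => θ.app W s) (kernel.lift_ι ψ φ w)
  · exact (QCohLib.app_map (kernel.ι ψ) (homOfLE hle) k).symm

theorem mono_of_local {F G : X₀.Modules} (φ : F ⟶ G)
    (h : ∀ (x : X₀) (O : X₀.Opens), x ∈ O → ∃ W : X₀.Opens, x ∈ W ∧ W ≤ O ∧ Function.Injective (φ.app W)) :
    Mono φ :=
  ⟨fun {P} a b e => Scheme.Modules.hom_ext _ _ fun V => ConcreteCategory.hom_ext _ _ fun t =>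
    ModGlueLib.eq_of_locally _ _ fun x hx => by
      obtain ⟨W, hxW, hle, hinj⟩ := h x V hx
      refine ⟨W, hle, hxW, hinj ?_⟩
      refine ((QCohLib.app_map φ (homOfLE hle) _).trans ?_).trans (QCohLib.app_map φ (homOfLE hle) _).symm
      exact congrArg _ (congr($(e).app V t))⟩

variable {Ω : Z.Modules} {d : OmegaSh.Der pr Ω} {φ : Omega.conormal i ⟶ (Scheme.Modules.pullback i).obj Ω}

theorem IsChart.exists_lift [IsClosedImmersion (i ≫ pr)] (_hJ : SqZero i pr) :
    letI := (pr.appLE W P c.le).hom.toAlgebra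
    ∃ l : Γ(Z, P) →ₐ[Γ(X, W)] Γ(X, W), ∀ b, c.π (l b) = i.app P b := by
  letI := (pr.appLE W P c.le).hom.toAlgebra
  obtain ⟨l, h1, h2⟩ := c.lift
  exact ⟨{ l with commutes' := h1 }, h2⟩

theorem shortExact [IsClosedImmersion (i ≫ pr)] (hJ : SqZero i pr) (hC : HasCharts i pr)
    (hd : OmegaSh.IsUniversal d) (hι : IsConMap i pr ι) (hφ : OmegaSh.IsConormalDiff i d φ) :
    ∃ w : ι ≫ φ = 0, (ShortComplex.mk ι φ w).ShortExact := by
  haveI : Coh.IsQCoh Ω := OmegaAffLib.isQCoh_of_isUniversal hd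
  have w : ι ≫ φ = 0 := conormal_hom_ext (i ≫ pr) fun U s => by
    show φ.app _ (ι.app _ (conormalSect (i ≫ pr) U s)) = _
    rw [hι U s]
    show φ.app (i ⁻¹ᵁ (pr ⁻¹ᵁ U)) (conormalSect i (pr ⁻¹ᵁ U) (up i pr U s)) = 0
    rw [hφ, idealSect_up, show d.app (pr ⁻¹ᵁ U) (pr.app U (idealSect (i ≫ pr).ker U s)) = 0 from
      d.d_app (X := op U) _, map_zero]
  have hm : Mono ι := mono_of_local ι fun x O hx => by
    obtain ⟨W, P, c, hxP, hle⟩ := hC x O hx
    refine ⟨i ⁻¹ᵁ P, hxP, hle, (injective_iff_map_eq_zero (ι.app (i ⁻¹ᵁ P)).hom).2 fun t ht => ?_⟩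
    obtain ⟨y, rfl⟩ := (c.κ_bijective hJ).2 t
    replace ht : conormalSect i P (c.upP y) = 0 := (c.ι_κ hι y).symm.trans ht
    rw [(conormal_facts i c.hP).2, c.idealSect_upP] at ht
    letI := (pr.appLE W P c.le).hom.toAlgebra
    obtain ⟨l, hl⟩ := c.exists_lift hJ
    have h0 : idealSect (i ≫ pr).ker W y = 0 := eq_zero_of_alg_mem_sq (c.sq hJ) l hl ht
    rw [idealSect_injective (i ≫ pr) W (h0.trans (map_zero _).symm), map_zero]
  refine ⟨w, @ShortComplex.ShortExact.mk _ _ _ (ShortComplex.mk ι φ w) (exact_of_local ι φ w ?_) hm ?_⟩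
  · intro V t ht x hx
    obtain ⟨W, P, c, hxP, hle⟩ := hC x V hx
    refine ⟨i ⁻¹ᵁ P, hle, hxP, ?_⟩
    obtain ⟨s, hs⟩ := (conormal_facts i c.hP).1 ((Omega.conormal i).presheaf.map (homOfLE hle).op t)
    have h0 : φ.app (i ⁻¹ᵁ P) (conormalSect i P s) = 0 := by
      rw [hs, QCohLib.app_map φ (homOfLE hle), ht, map_zero]
    rw [hφ] at h0
    letI := (pr.appLE W P c.le).hom.toAlgebra
    obtain ⟨e, he⟩ := OmegaAffLib.exists_equiv_alg hd c.hW c.hP c.le rfl
    obtain ⟨l, hl⟩ := c.exists_lift hJ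
    have h1 := (pull_facts i Ω c.hP).2 _ h0
    have h2 : KaehlerDifferential.D Γ(X, W) Γ(Z, P) (idealSect i.ker P s) ∈
        RingHom.ker (i.app P).hom • (⊤ : Submodule Γ(Z, P) (Ω[Γ(Z, P)⁄Γ(X, W)])) := by
      have h3 : e.symm (d.app P (idealSect i.ker P s)) =
          KaehlerDifferential.D Γ(X, W) Γ(Z, P) (idealSect i.ker P s) := by
        rw [← he, LinearEquiv.symm_apply_apply]
      rw [← h3]
      refine Submodule.smul_induction_on (p := fun m => e.symm m ∈ _ • (⊤ : Submodule Γ(Z, P) _)) h1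
        (fun a ha m _ => ?_) (fun a b ha hb => by rw [map_add]; exact Submodule.add_mem _ ha hb)
      rw [map_smul]
      exact Submodule.smul_mem_smul ha trivial
    obtain ⟨a, ha, hax⟩ := exists_sub_mem rfl l hl (app_idealSect i P s) h2
    refine ⟨c.κ (ConormalSecLib.lift (i ≫ pr) W (a : Γ(X, W)) (IsChart.app_eq_zero c ha)), ?_⟩
    rw [c.ι_κ hι, ← hs, ← sub_eq_zero, ← map_sub, (conormal_facts i c.hP).2, map_sub, c.idealSect_upP,
      idealSect_lift, ← neg_sub]
    exact Ideal.neg_mem_iff _ |>.2 hax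
  · refine QCohLib.epi_of_surjective_on_affines φ fun V t x hx => ?_
    obtain ⟨W, P, c, hxP, hle⟩ := hC x V hx
    refine ⟨i ⁻¹ᵁ P, hle, hxP, ?_⟩
    obtain ⟨m, hm⟩ := (pull_facts i Ω c.hP).1
      (((Scheme.Modules.pullback i).obj Ω).presheaf.map (homOfLE hle).op t)
    letI := (pr.appLE W P c.le).hom.toAlgebra
    obtain ⟨e, he⟩ := OmegaAffLib.exists_equiv_alg hd c.hW c.hP c.le rfl
    obtain ⟨l, hl⟩ := c.exists_lift hJ
    suffices h : ∀ v, ∃ s, φ.app (i ⁻¹ᵁ P) s = pullSect i Ω P (e v) by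
      obtain ⟨s, hs⟩ := h (e.symm m)
      rw [LinearEquiv.apply_symm_apply, hm] at hs
      exact ⟨s, hs⟩
    intro v
    have hv : v ∈ Submodule.span Γ(Z, P) (Set.range (KaehlerDifferential.D Γ(X, W) Γ(Z, P))) := by
      rw [KaehlerDifferential.span_range_derivation]; trivial
    induction hv using Submodule.span_induction with
    | mem y hy =>
      obtain ⟨b, rfl⟩ := hy
      have hb : i.app P (b - pr.appLE W P c.le (l b)) = 0 := by
        rw [map_sub]
        exact sub_eq_zero.2 (hl b).symm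
      refine ⟨conormalSect i P (ConormalSecLib.lift i P _ hb), ?_⟩
      rw [hφ, idealSect_lift, map_sub, OmegaAffLib.der_appLE d, sub_zero, he]
    | zero => exact ⟨0, by simp only [map_zero]⟩
    | add y z _ _ hy hz =>
      obtain ⟨a, ha⟩ := hy
      obtain ⟨b, hb⟩ := hz
      exact ⟨a + b, by simp only [map_add, ha, hb]⟩
    | smul a y _ hy =>
      obtain ⟨s, hs⟩ := hy
      refine ⟨i.app P a • s, ?_⟩
      rw [Scheme.Modules.Hom.app_smul, hs, map_smul, pullSect_smul]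

/-- Good lifts on a chart, for a given retraction. -/
def IsChart.Good (r : Omega.conormal i ⟶ Omega.conormal (i ≫ pr)) (s : Γ(Z, P) →+* Γ(X, W)) : Prop :=
  (∀ a, s (pr.appLE W P c.le a) = a) ∧ (∀ b, c.π (s b) = i.app P b) ∧
    ∀ x : Γ(ClSub.idealMod i.ker, P), ∃ y, idealSect (i ≫ pr).ker W y = s (idealSect i.ker P x) ∧
      c.κ y = r.app (i ⁻¹ᵁ P) (conormalSect i P x)

variable {r : Omega.conormal i ⟶ Omega.conormal (i ≫ pr)}

theorem IsChart.exists_good [IsClosedImmersion (i ≫ pr)] (hJ : SqZero i pr)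
    (hι : IsConMap i pr ι) (hr : ι ≫ r = 𝟙 _) : ∃ s, c.Good r s := by
  letI := (pr.appLE W P c.le).hom.toAlgebra
  obtain ⟨l, hl⟩ := c.exists_lift hJ
  let κe := AddEquiv.ofBijective c.κ (c.κ_bijective hJ)
  let L : RingHom.ker (i.app P).hom → Γ(ClSub.idealMod i.ker, P) := fun x => ConormalSecLib.lift i P x.1 x.2
  have hL : ∀ x, idealSect i.ker P (L x) = x.1 := fun x => idealSect_lift i P x.1 x.2
  have hLadd : ∀ x y, L (x + y) = L x + L y := fun x y => idealSect_injective i P (by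
    rw [map_add, hL, hL, hL]; rfl)
  let ρ : RingHom.ker (i.app P).hom →+ Γ(X, W) := AddMonoidHom.mk'
    (fun x => idealSect (i ≫ pr).ker W (κe.symm (r.app (i ⁻¹ᵁ P) (conormalSect i P (L x))))) fun x y => by
      simp only [hLadd, map_add]
  have hκ : ∀ y, c.κ y = κe y := fun y => rfl
  have hρ0 : ∀ x, c.π (ρ x) = 0 := fun x => by
    rw [c.π_eq]
    exact (congrArg _ (app_idealSect (i ≫ pr) W _)).trans (map_zero _)
  have hρl : ∀ (b : Γ(Z, P)) (x : RingHom.ker (i.app P).hom), ρ (b • x) = l b * ρ x := fun b x => by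
    have hb : L (b • x) = b • L x := idealSect_injective i P (by
      rw [idealSect_smul, hL, hL]; rfl)
    show idealSect (i ≫ pr).ker W _ = l b * idealSect (i ≫ pr).ker W _
    rw [← idealSect_smul, hb]
    congr 1
    apply κe.injective
    rw [AddEquiv.apply_symm_apply, ← hκ, c.κ_smul, hl, hκ, AddEquiv.apply_symm_apply]
    exact (congrArg (r.app (i ⁻¹ᵁ P)) (pullSect_smul i _ P b _)).trans (Scheme.Modules.Hom.app_smul r _ _)
  have hρa : ∀ (a : Γ(X, W)) (ha : algebraMap Γ(X, W) Γ(Z, P) a ∈ RingHom.ker (i.app P).hom), ρ ⟨_, ha⟩ = a := by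
    intro a ha
    let y := ConormalSecLib.lift (i ≫ pr) W a (c.app_eq_zero ha)
    have hy : L ⟨_, ha⟩ = c.upP y := idealSect_injective i P (by
      rw [hL, c.idealSect_upP, idealSect_lift]; rfl)
    show idealSect (i ≫ pr).ker W _ = a
    rw [hy, ← c.ι_κ hι, show r.app (i ⁻¹ᵁ P) (ι.app (i ⁻¹ᵁ P) (c.κ y)) = c.κ y from
      congr(($hr).app (i ⁻¹ᵁ P) (c.κ y)), hκ, AddEquiv.symm_apply_apply, idealSect_lift]
  obtain ⟨s, hs1, hs2⟩ := exists_section (c.sq hJ) rfl l hl ρ hρ0 hρl hρa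
  refine ⟨s.toRingHom, s.commutes, hs1, fun x => ?_⟩
  refine ⟨κe.symm (r.app (i ⁻¹ᵁ P) (conormalSect i P x)), ?_, κe.apply_symm_apply _⟩
  refine Eq.trans ?_ (hs2 ⟨_, app_idealSect i P x⟩).symm
  show idealSect (i ≫ pr).ker W _ = idealSect (i ≫ pr).ker W _
  rw [show L ⟨_, app_idealSect i P x⟩ = x from idealSect_injective i P (hL _)]

theorem IsChart.good_compat [IsClosedImmersion (i ≫ pr)] (hJ : SqZero i pr)
    {W' : X.Opens} {P' : Z.Opens} (c' : IsChart i pr W' P') (hW : W' ≤ W) (hP : P' ≤ P)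
    {s : Γ(Z, P) →+* Γ(X, W)} (hs : c.Good r s) {s' : Γ(Z, P') →+* Γ(X, W')} (hs' : c'.Good r s') :
    (X.presheaf.map (homOfLE hW).op).hom.comp s = s'.comp (Z.presheaf.map (homOfLE hP).op).hom := by
  obtain ⟨hs1, hs2, hs3⟩ := hs
  obtain ⟨hs1', hs2', hs3'⟩ := hs'
  letI := (pr.appLE W P c.le).hom.toAlgebra
  obtain ⟨l, hl⟩ := c.exists_lift hJ
  refine RingHom.ext fun b => ?_
  show X.presheaf.map (homOfLE hW).op (s b) = s' (Z.presheaf.map (homOfLE hP).op b)
  have halg : ∀ a, X.presheaf.map (homOfLE hW).op (s (pr.appLE W P c.le a)) =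
      s' (Z.presheaf.map (homOfLE hP).op (pr.appLE W P c.le a)) := fun a => by
    rw [hs1, ← ConcreteCategory.comp_apply (pr.appLE W P c.le), Scheme.Hom.appLE_map,
      ← Scheme.Hom.map_appLE pr c'.le (homOfLE hW).op, ConcreteCategory.comp_apply, hs1']
  have hb : i.app P (b - pr.appLE W P c.le (l b)) = 0 := by
    rw [map_sub]
    exact sub_eq_zero.2 (hl b).symm
  let x := ConormalSecLib.lift i P _ hb
  have hx : X.presheaf.map (homOfLE hW).op (s (idealSect i.ker P x)) =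
      s' (Z.presheaf.map (homOfLE hP).op (idealSect i.ker P x)) := by
    obtain ⟨y, hy, hκ⟩ := hs3 x
    obtain ⟨y', hy', hκ'⟩ := hs3' ((ClSub.idealMod i.ker).presheaf.map (homOfLE hP).op x)
    rw [← idealSect_map, ← hy', ← hy, ← idealSect_map]
    congr 1
    apply (c'.κ_bijective hJ).1
    rw [hκ']
    have e1 : conormalSect i P' ((ClSub.idealMod i.ker).presheaf.map (homOfLE hP).op x) =
        (Omega.conormal i).presheaf.map (homOfLE (i.preimage_mono hP)).op (conormalSect i P x) := pullSect_map _ _ _ _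
    rw [e1, QCohLib.app_map r (homOfLE (i.preimage_mono hP)), ← hκ]
    show ((Omega.conormal (i ≫ pr)).presheaf.map _) (conormalSect (i ≫ pr) W' _) =
      (Omega.conormal (i ≫ pr)).presheaf.map _ ((Omega.conormal (i ≫ pr)).presheaf.map _ (conormalSect (i ≫ pr) W y))
    refine (congrArg _ (pullSect_map (i ≫ pr) (ClSub.idealMod (i ≫ pr).ker) hW y)).trans ?_
    refine (OmegaSh.resM_resM (M := Omega.conormal (i ≫ pr)) _ _ _).trans ?_
    exact (OmegaSh.resM_resM (M := Omega.conormal (i ≫ pr)) (homOfLE c.eq.ge) (homOfLE (i.preimage_mono hP))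
      (conormalSect (i ≫ pr) W y)).symm
  rw [idealSect_lift] at hx
  simp only [map_sub, halg, sub_left_inj] at hx
  exact hx

end LiftTorLib
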