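import Groth.Agent.LiftTorLib.Seq
import Groth.Agent.OmegaAffLib.DiffCompat
import Groth.Agent.OmegaAffLib.Apps
import Groth.Agent.HomCohLib.Adj
import Groth.Agent.HomCohLib.Coh
import Groth.Agent.HomCohLib.Formal
import Groth.Agent.HomCohLib.FullyFaithful
import Groth.Agent.CohCmpLib.Eps
import Groth.Agent.SerreVanLib.Main

/-!
# Splitting the conormal sequence
-/

set_option autoImplicit false
set_option linter.style.haveILetI false
set_option backward.isDefEq.respectTransparency false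
set_option backward.isDefEq.respectTransparency.types false
set_option maxHeartbeats 800000
universe u
open CategoryTheory CategoryTheory.Limits AlgebraicGeometry TopologicalSpace Opposite OmegaSh ConormalSecLib
open CohCmpLib (homMod happ curryMod evMod)
open HomCohLib (mapR)

noncomputable section

namespace LiftTorLib

section Hom

variable {X : Scheme.{u}} (M : X.Modules)

theorem sheafHomIso_naturality [DCoh.HasSheafHom M] {N N' : X.Modules} (f : N ⟶ N') :
    (DCoh.sheafHom M).map f ≫ (HomCohLib.sheafHomIso M N').hom = (HomCohLib.sheafHomIso M N).hom ≫ mapR M f := by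
  refine (((DCoh.sheafHomAdj M).rightAdjointUniq (HomCohLib.homAdj M)).hom.naturality f).trans ?_
  congr 1
  change curryMod ((((DCoh.tensorBi (X := X)).obj M).map (𝟙 (homMod M N)) ≫ evMod M N) ≫ f) = curryMod (evMod M N ≫ f)
  rw [CategoryTheory.Functor.map_id, Category.id_comp]

/-- A short exact sequence whose quotient is locally a direct summand splits if the first cohomology of the
homomorphisms into the kernel vanishes. -/
theorem exists_section_of_local [DCoh.HasSheafHom M] {J E : X.Modules} {ι : J ⟶ E} {φ : E ⟶ M} {w : ι ≫ φ = 0}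
    (hS : (ShortComplex.mk ι φ w).ShortExact)
    (h1 : Subsingleton (Coh.HH X ((DCoh.sheafHom M).obj J) 1))
    (hloc : ∀ x : X, ∃ W : X.Opens, x ∈ W ∧ ∃ s : Γ(homMod M E, W),
      (mapR M φ).app W s = (homMod M M).presheaf.map (homOfLE le_top).op (HomCohLib.ofHom (𝟙 M))) :
    ∃ σ : M ⟶ E, σ ≫ φ = 𝟙 M := by
  haveI : PreservesLimitsOfSize.{0, 0} (DCoh.sheafHom M) := (DCoh.sheafHomAdj M).rightAdjoint_preservesLimits
  haveI : PreservesFiniteLimits (DCoh.sheafHom M) := PreservesLimitsOfSize.preservesFiniteLimits _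
  haveI : (DCoh.sheafHom M).Additive := (DCoh.sheafHomAdj M).right_adjoint_additive
  have wA : mapR M ι ≫ mapR M φ = 0 := by
    refine (cancel_epi (HomCohLib.sheafHomIso M J).hom).1 ?_
    rw [← Category.assoc, ← sheafHomIso_naturality, Category.assoc, ← sheafHomIso_naturality, ← Category.assoc,
      ← Functor.map_comp, w, Functor.map_zero, zero_comp, comp_zero]
  haveI := hS.mono_f
  haveI : Mono ι := hS.mono_f
  have hex : ((ShortComplex.mk ι φ w).map (DCoh.sheafHom M)).Exact ∧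
      Mono ((ShortComplex.mk ι φ w).map (DCoh.sheafHom M)).f :=
    ⟨hS.exact.map_of_mono_of_preservesKernel (DCoh.sheafHom M) hS.mono_f inferInstance,
      inferInstanceAs (Mono ((DCoh.sheafHom M).map ι))⟩
  let T : ShortComplex X.Modules := ShortComplex.mk (mapR M ι) (mapR M φ) wA
  let eT : (ShortComplex.mk ι φ w).map (DCoh.sheafHom M) ≅ T :=
    ShortComplex.isoMk (HomCohLib.sheafHomIso M J) (HomCohLib.sheafHomIso M E) (HomCohLib.sheafHomIso M M)
      (sheafHomIso_naturality M ι).symm (sheafHomIso_naturality M φ).symm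
  have hTe : T.Exact := (ShortComplex.exact_iff_of_iso eT).1 hex.1
  haveI : Mono (mapR M ι) := by
    have : mapR M ι = (HomCohLib.sheafHomIso M J).inv ≫ (DCoh.sheafHom M).map ι ≫ (HomCohLib.sheafHomIso M E).hom := by
      rw [sheafHomIso_naturality, Iso.inv_hom_id_assoc]
    rw [this]
    infer_instance
  let q := Abelian.factorThruImage (mapR M φ)
  let m := Abelian.image.ι (mapR M φ)
  have hqm : q ≫ m = mapR M φ := Abelian.image.fac _
  have wq : mapR M ι ≫ q = 0 := by rw [← cancel_mono m, Category.assoc, hqm, wA, zero_comp]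
  let T' : ShortComplex X.Modules := ShortComplex.mk (mapR M ι) q wq
  let g : T' ⟶ T := { τ₁ := 𝟙 _, τ₂ := 𝟙 _, τ₃ := m, comm₁₂ := by simp [T', T], comm₂₃ := by simp [T', T, q, m] }
  haveI : Epi g.τ₁ := inferInstanceAs (Epi (𝟙 _))
  haveI : IsIso g.τ₂ := inferInstanceAs (IsIso (𝟙 _))
  haveI : Mono g.τ₃ := inferInstanceAs (Mono m)
  have hT' : T'.ShortExact :=
    { exact := (ShortComplex.exact_iff_of_epi_of_isIso_of_mono g).2 hTe
      mono_f := inferInstanceAs (Mono (mapR M ι))
      epi_g := inferInstanceAs (Epi q) }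
  let one : Γ(homMod M M, (⊤ : X.Opens)) := HomCohLib.ofHom (𝟙 M)
  have hone : ∃ t, m.app ⊤ t = one := by
    obtain ⟨t, ht⟩ := QCohLib.exists_of_app_eq_zero (S := ShortComplex.mk m (cokernel.π (mapR M φ))
      (kernel.condition _)) (ShortComplex.exact_of_f_is_kernel _ (kernelIsKernel _)) inferInstance one
      (ModGlueLib.eq_of_locally _ _ fun x _ => by
        obtain ⟨W, hxW, s, hs⟩ := hloc x
        refine ⟨W, le_top, hxW, ?_⟩
        refine ((QCohLib.app_map (cokernel.π (mapR M φ)) (homOfLE le_top) one).symm.trans ?_).trans (map_zero _).symm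
        refine (congrArg _ hs.symm).trans ?_
        exact congr($(cokernel.condition (mapR M φ)).app W s))
    exact ⟨t, ht⟩
  obtain ⟨t, ht⟩ := hone
  haveI : Subsingleton (QCohLib.HU (T'.map (QCohLib.toAbF X)).X₁ 1 ⊤) := by
    haveI : Subsingleton (Coh.HH X (homMod M J) 1) :=
      SerreVanLib.subsingleton_HH_of_iso (HomCohLib.sheafHomIso M J).symm 1 h1
    have e : Coh.HH X (homMod M J) 1 ≃ QCohLib.HU ((QCohLib.toAbF X).obj (homMod M J)) 1 ⊤ :=
      (QCohLib.hEquiv ((QCohLib.toAbF X).obj (homMod M J)) 1).toEquiv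
    exact e.symm.subsingleton
  obtain ⟨s, hs⟩ := QCohLib.exists_lift_of_subsingleton (S := T'.map (QCohLib.toAbF X))
    (QCohLib.toAbF_shortExact hT') t
  refine ⟨HomCohLib.toHom s, ?_⟩
  have e : (mapR M φ).app ⊤ s = one := by
    rw [← hqm]
    exact (congrArg (m.app ⊤) hs).trans ht
  rw [← HomCohLib.toHom_mapR, e, HomCohLib.toHom_ofHom]

end Hom

variable {X₀ Z X : Scheme.{u}} {i : X₀ ⟶ Z} [IsClosedImmersion i] {pr : Z ⟶ X}
  {W : X.Opens} {P : Z.Opens}
variable {Ω : Z.Modules} {d : OmegaSh.Der pr Ω} {φ : Omega.conormal i ⟶ (Scheme.Modules.pullback i).obj Ω}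

/-- On a chart the conormal map onto the differentials has a linear section. -/
theorem IsChart.exists_linSection (c : IsChart i pr W P) [IsClosedImmersion (i ≫ pr)] (hJ : SqZero i pr)
    (hd : OmegaSh.IsUniversal d) (hφ : OmegaSh.IsConormalDiff i d φ) :
    ∃ σ : Γ((Scheme.Modules.pullback i).obj Ω, i ⁻¹ᵁ P) →ₗ[Γ(X₀, i ⁻¹ᵁ P)] Γ(Omega.conormal i, i ⁻¹ᵁ P),
      ∀ t, φ.app (i ⁻¹ᵁ P) (σ t) = t := by
  classical
  haveI : Coh.IsQCoh Ω := OmegaAffLib.isQCoh_of_isUniversal hd
  obtain ⟨hsur, hker⟩ := pull_facts i Ω c.hP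
  obtain ⟨csur, cker⟩ := conormal_facts i c.hP
  letI : Algebra Γ(X, W) Γ(Z, P) := (pr.appLE W P c.le).hom.toAlgebra
  obtain ⟨l, hl⟩ := c.exists_lift hJ
  obtain ⟨e, he⟩ := OmegaAffLib.exists_equiv_alg hd c.hW c.hP c.le rfl
  letI : Module Γ(Z, P) Γ(Omega.conormal i, i ⁻¹ᵁ P) := Module.compHom _ (i.app P).hom
  letI : Module Γ(X, W) Γ(Omega.conormal i, i ⁻¹ᵁ P) := Module.compHom _ (algebraMap Γ(X, W) Γ(Z, P))
  haveI : IsScalarTower Γ(X, W) Γ(Z, P) Γ(Omega.conormal i, i ⁻¹ᵁ P) :=
    IsScalarTower.of_algebraMap_smul fun _ _ => rfl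
  have hb : ∀ b : Γ(Z, P), i.app P (b - algebraMap Γ(X, W) Γ(Z, P) (l b)) = 0 := fun b => by
    rw [map_sub]
    exact sub_eq_zero.2 (hl b).symm
  let y : Γ(Z, P) → Γ(ClSub.idealMod i.ker, P) := fun b => ConormalSecLib.lift i P _ (hb b)
  have hy : ∀ b, idealSect i.ker P (y b) = b - algebraMap Γ(X, W) Γ(Z, P) (l b) := fun b => idealSect_lift i P _ _
  have hsm : ∀ (b : Γ(Z, P)) (z : Γ(ClSub.idealMod i.ker, P)),
      conormalSect i P (b • z) = i.app P b • conormalSect i P z := fun b z => pullSect_smul i _ P b z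
  let D₀ : Γ(Z, P) →ₗ[Γ(X, W)] Γ(Omega.conormal i, i ⁻¹ᵁ P) :=
    { toFun := fun b => conormalSect i P (y b)
      map_add' := fun a b => by
        rw [← map_add]
        refine congrArg _ (idealSect_injective i P ?_)
        simp only [map_add, hy]
        ring
      map_smul' := fun r b => by
        show conormalSect i P (y (r • b)) = i.app P (algebraMap Γ(X, W) Γ(Z, P) r) • conormalSect i P (y b)
        rw [← hsm]
        refine congrArg _ (idealSect_injective i P ?_)
        rw [idealSect_smul, hy, hy, Algebra.smul_def, map_mul l, AlgHom.commutes, Algebra.algebraMap_self,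
          RingHom.id_apply, map_mul]
        ring }
  let D : Derivation Γ(X, W) Γ(Z, P) Γ(Omega.conormal i, i ⁻¹ᵁ P) := Derivation.mk' D₀ fun a b => by
    show conormalSect i P (y (a * b)) = i.app P a • conormalSect i P (y b) + i.app P b • conormalSect i P (y a)
    rw [← hsm, ← hsm, ← map_add, ← sub_eq_zero, ← map_sub, cker, map_sub, map_add, idealSect_smul, idealSect_smul,
      hy, hy, hy, map_mul, map_mul]
    have : a * b - algebraMap Γ(X, W) Γ(Z, P) (l a) * algebraMap Γ(X, W) Γ(Z, P) (l b) -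
        (a * (b - algebraMap Γ(X, W) Γ(Z, P) (l b)) + b * (a - algebraMap Γ(X, W) Γ(Z, P) (l a))) =
        -((a - algebraMap Γ(X, W) Γ(Z, P) (l a)) * (b - algebraMap Γ(X, W) Γ(Z, P) (l b))) := by ring
    rw [this]
    exact Ideal.neg_mem_iff _ |>.2 (Ideal.mul_mem_mul (hb a) (hb b))
  let g : Γ(Ω, P) →ₗ[Γ(Z, P)] Γ(Omega.conormal i, i ⁻¹ᵁ P) := D.liftKaehlerDifferential ∘ₗ e.symm.toLinearMap
  have gker : ∀ m, pullSect i Ω P m = 0 → g m = 0 := fun m hm => by
    refine Submodule.smul_induction_on (p := fun m => g m = 0) (hker m hm) (fun a ha x _ => ?_)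
      (fun a b ha hb => by rw [map_add, ha, hb, add_zero])
    rw [map_smul]
    show i.app P a • g x = 0
    rw [RingHom.mem_ker.1 ha, zero_smul]
  have hφg : ∀ m, φ.app (i ⁻¹ᵁ P) (g m) = pullSect i Ω P m := fun m => by
    suffices h : ∀ v, φ.app (i ⁻¹ᵁ P) (D.liftKaehlerDifferential v) = pullSect i Ω P (e v) by
      refine (h (e.symm m)).trans ?_
      rw [LinearEquiv.apply_symm_apply]
    intro v
    have hv : v ∈ Submodule.span Γ(Z, P) (Set.range (KaehlerDifferential.D Γ(X, W) Γ(Z, P))) := by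
      rw [KaehlerDifferential.span_range_derivation]; trivial
    induction hv using Submodule.span_induction with
    | mem z hz =>
      obtain ⟨b, rfl⟩ := hz
      rw [Derivation.liftKaehlerDifferential_comp_D]
      show φ.app _ (conormalSect i P (y b)) = _
      rw [hφ, hy, map_sub, show d.app P (algebraMap Γ(X, W) Γ(Z, P) (l b)) = 0 from
        OmegaAffLib.der_appLE d W P c.le (l b), sub_zero, he]
    | zero => simp only [map_zero]
    | add a b _ _ ha hb' => simp only [map_add, ha, hb']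
    | smul a z _ hz =>
      rw [map_smul D.liftKaehlerDifferential, map_smul e, pullSect_smul]
      show φ.app _ (i.app P a • D.liftKaehlerDifferential z) = _
      rw [Scheme.Modules.Hom.app_smul, hz]
  choose m hm using hsur
  have key : ∀ x, g x = g (m (pullSect i Ω P x)) := fun x => sub_eq_zero.1 (by
    rw [← map_sub]
    exact gker _ (by rw [map_sub, hm, sub_self]))
  refine ⟨{ toFun := fun t => g (m t), map_add' := fun s t => ?_, map_smul' := fun r t => ?_ }, fun t => ?_⟩
  · rw [← map_add g, key (m s + m t)]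
    rw [map_add (pullSect i Ω P).hom, hm, hm]
  · obtain ⟨a, rfl⟩ := app_surj i c.hP r
    show g (m (i.app P a • t)) = i.app P a • g (m t)
    rw [show i.app P a • g (m t) = g (a • m t) from (map_smul g a (m t)).symm, key (a • m t), pullSect_smul, hm]
  · exact (hφg _).trans (hm t)

/-- A retraction of the conormal map of a thickening with local lifts. -/
theorem exists_retraction_of_H1 [IsClosedImmersion (i ≫ pr)] (hJ : SqZero i pr) (hC : HasCharts i pr)
    (hd : OmegaSh.IsUniversal d) (hφ : OmegaSh.IsConormalDiff i d φ) {M : X₀.Modules}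
    (e : M ≅ (Scheme.Modules.pullback i).obj Ω) [DCoh.HasSheafHom M]
    (h1 : Subsingleton (Coh.HH X₀ ((DCoh.sheafHom M).obj (Omega.conormal (i ≫ pr))) 1)) :
    ∃ (ι : Omega.conormal (i ≫ pr) ⟶ Omega.conormal i) (r : Omega.conormal i ⟶ Omega.conormal (i ≫ pr)),
      IsConMap i pr ι ∧ ι ≫ r = 𝟙 _ := by
  obtain ⟨ι, hι⟩ := exists_conormalMap i pr
  obtain ⟨w, hS⟩ := shortExact hJ hC hd hι hφ
  haveI : Coh.IsQCoh Ω := OmegaAffLib.isQCoh_of_isUniversal hd
  haveI : Coh.IsQCoh ((Scheme.Modules.pullback i).obj Ω) := KFlatLib.isQCoh_pullback i Ω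
  haveI : Coh.IsQCoh M := QCohLib.isQCoh_of_iso e.symm
  have w' : ι ≫ φ ≫ e.inv = 0 := by rw [← Category.assoc, w, zero_comp]
  have hS' : (ShortComplex.mk ι (φ ≫ e.inv) w').ShortExact :=
    ShortComplex.shortExact_of_iso (ShortComplex.isoMk (S₁ := ShortComplex.mk ι φ w)
      (S₂ := ShortComplex.mk ι (φ ≫ e.inv) w') (Iso.refl _) (Iso.refl _) e.symm (by simp) (by simp)) hS
  obtain ⟨σ, hσ⟩ := exists_section_of_local M hS' h1 fun x => by
    obtain ⟨W, P, c, hxP, -⟩ := hC x ⊤ trivial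
    obtain ⟨τ, hτ⟩ := c.exists_linSection hJ hd hφ
    let eW : Γ(M, i ⁻¹ᵁ P) →ₗ[Γ(X₀, i ⁻¹ᵁ P)] Γ((Scheme.Modules.pullback i).obj Ω, i ⁻¹ᵁ P) :=
      { toFun := fun z => e.hom.app (i ⁻¹ᵁ P) z
        map_add' := map_add _
        map_smul' := fun r z => Scheme.Modules.Hom.app_smul e.hom r z }
    obtain ⟨s, hs⟩ := (HomCohLib.lin_bijective (M := M) (N := Omega.conormal i) (c.hP.preimage i)).2 (τ ∘ₗ eW)
    refine ⟨i ⁻¹ᵁ P, hxP, s, (HomCohLib.lin_bijective (M := M) (N := M) (c.hP.preimage i)).1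
      (LinearMap.ext fun z => ?_)⟩
    rw [HomCohLib.lin_apply, HomCohLib.lin_apply, HomCohLib.happ_mapR]
    refine Eq.trans ?_ ((congrArg (fun θ => Scheme.Modules.Hom.app θ (i ⁻¹ᵁ P) z)
      (HomCohLib.toHom_ofHom (𝟙 M))).symm.trans (HomCohLib.toHom_app _ _ _))
    have e1 : happ s z = τ (eW z) := congr($hs z)
    rw [e1]
    show e.inv.app (i ⁻¹ᵁ P) (φ.app (i ⁻¹ᵁ P) (τ (eW z))) = z
    rw [hτ]
    exact congr(($(e.hom_inv_id)).app (i ⁻¹ᵁ P) z)
  let sp := ShortComplex.Splitting.ofExactOfSection _ hS'.exact σ hσ hS'.mono_f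
  exact ⟨ι, sp.r, hι, sp.f_r⟩

end LiftTorLib
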